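import Cfsg.Agent.H196.K547.TwE6

/-!
# `D3` for the Chevalley groups of type `F₄`, `E₆`, `E₇`, `q` odd (helper196, S4547)

* `sl_root` : the rank one groups are isomorphic to `SL(2, K)` if every row of the Cartan matrix has an odd entry;
* `d3_chev` : `D3 (D.group K)` from a frame certificate;
* `d3_F4`, `d3_E6`, `d3_E7`.
-/

set_option autoImplicit false
set_option linter.unusedSectionVars false
set_option maxRecDepth 100000

namespace Cfsg.Agent.H196.K547

open CoxeterSystem Cfsg.Lie Cfsg.Agent.ChevalleyStructure Cfsg.Agent.ChevalleyStructure.CoxeterGeom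
  Cfsg.Agent.ChevalleyStructure.Elts Cfsg.Agent.Tits.Roots Cfsg.Agent.Tits.Core Cfsg.Agent.Nodes.Reps
  Cfsg.Agent.Nodes.BNOf Cfsg.Agent.Nodes.Bruhat Cfsg.Agent.Nodes.RGDChev Cfsg.Agent.ClosedExc
  Cfsg.Agent.ClosedExc.Frame Cfsg.Agent.ClosedExc.WFr Cfsg.Agent.ClosedExc.Chev Cfsg.Agent.ChevalleyStructure.NPerm
  Cfsg.Agent.ChevalleyStructure.CoxeterGeomTypes Cfsg.Agent.ClosedExc.Families
open Cfsg.Agent.Nodes.FreeTorus (LL)
open Cfsg.Agent.H775.Sd.ChevElem
open Cfsg.Agent.H821.K547 (Rk D3)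

section gen

variable {D : ChevalleyDatum} {l : ℕ} {M : CoxeterMatrix (Fin l)} (hp : IsType D l M) (K : Type) [Field K]
  [Fintype K] {W : Type*} [Group W] (cs : CoxeterSystem M W)

include hp in
/-- the rank one groups of the simple roots -/
theorem sl_simple (hK : Odd (Fintype.card K)) {i j : Fin l} (hij : lk D l i j) :
    Nonempty (Matrix.SpecialLinearGroup (Fin 2) K ≃* ↥(LL (XX D l K) (sr i))) := by
  have h2 : (2 : K) ≠ 0 := SL.two_ne hK
  have hj := simple_lt hp.inList (lt_rank hp j)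
  have hne : OddHalf.LongSL.Chev.phi hp K i (-1) ≠ 1 := by
    intro h1
    have h3 := neg_one_conj hp K i hj (1 : K)
    have h4 : (OddHalf.LongSL.Chev.phi hp K i (-1) : GL D.Idx K) = 1 := congrArg Subtype.val h1
    rw [h4, one_mul, inv_one, mul_one] at h3
    have h5 := xG_injective hp.inList hj h3
    have hodd : Odd (D.cartan i (D.simple j)) := Int.odd_iff.2 hij
    rw [hodd.neg_one_zpow] at h5
    apply h2
    linear_combination h5
  exact ⟨(slEquiv (OddHalf.LongSL.Chev.phi hp K i)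
    (fun _ hg => OddHalf.LongSL.Chev.phi_eq_one _ (congrArg Subtype.val hg)) hne).trans
      (MulEquiv.subgroupCongr (range_phi hp K i))⟩

include hp in
/-- **`D3` from a frame certificate.** -/
theorem d3_chev (hK : Odd (Fintype.card K)) {k s : ℕ} {c : Cert} (hA : IsTab (cartanOf D l) c.AL)
    (hc : Ok l k (2 ^ s) c) (hs : 2 ≤ s) (hk : 0 < k)
    (hO1 : ∀ a < k, ∀ b < k, a ≠ b → Orth D l (toV l (c.T.getD a [])) (toV l (c.T.getD b [])))
    (hlk : ∀ i, ∃ j, lk D l i j)
    (hord : ∀ m : ℕ, 2 ^ m ∣ Nat.card ↥(D.group K) →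
      2 ^ m ∣ Nat.card ↥(D.diagonalSubgroup K) * 2 ^ s * (Fintype.card K + 1) ^ k) :
    D3 ↥(D.group K) := by
  classical
  obtain ⟨p, hpc⟩ := CharP.exists K
  have hpp : p.Prime := (CharP.char_is_prime_or_zero K p).resolve_right (CharP.char_ne_zero_of_finite K p)
  have : Fact p.Prime := ⟨hpp⟩
  have cs := M.toCoxeterSystem
  have hfin : Finite M.Group := finite_W hp cs
  have R := rgd (K := K) hp cs p
  obtain ⟨f1, f2, f3, f4⟩ := wframe' cs hp.isCartan hA hc
  have hT : Nat.card (TG D K) = Nat.card ↥(D.diagonalSubgroup K) :=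
    Nat.card_congr (Subgroup.subgroupOfEquivOfLe (Cfsg.Agent.ChevalleyStructure.Elts.diagonal_le_group hp.inList K)).toEquiv
  have F : FrameData cs hp.isCartan (Chev.XX D l K) (fun a : Fin k => toV l (c.T.getD a [])) (Subgroup.closure (Gm cs c)) :=
    ⟨fun a => f1 a a.2, fun a b hab => Chev.lc_of_orth hp K (hO1 a a.2 b b.2 fun e => hab (Fin.ext e)), f2, f3⟩
  have hodd := H491.Sd.odd_index R F (G1_eq_top (K := K) hp cs) (Chev.isSL hp K hK) (by
    intro m hm
    rw [hT, f4, Finset.prod_congr rfl fun a _ => by rw [card_XX hp K cs (F.root a)], Finset.prod_const,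
      Finset.card_univ, Fintype.card_fin]
    exact hord m hm)
  obtain ⟨hP, hrk⟩ := rk_two_of_cert cs (h := hp.isCartan) hA hc (m := s) rfl hs
  obtain ⟨w, i, hw⟩ := F.root ⟨0, hk⟩
  obtain ⟨j, hj⟩ := hlk i
  obtain ⟨e⟩ := sl_simple hp K hK hj
  obtain ⟨g, hg⟩ := exists_rp cs R.nsys w
  have e1 : cj g (LL (XX D l K) (sr i)) = LL (XX D l K) (toV l (c.T.getD ((⟨0, hk⟩ : Fin k) : ℕ) [])) := by
    rw [hw]
    exact Rk.rp_cj_LL R hg (isRoot_sr cs _ i)
  exact d3_of_frame R F (Chev.isSL hp K hK) hodd hP hrk ⟨0, hk⟩ hK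
    ((e.trans (cjEquiv g _)).trans (MulEquiv.subgroupCongr e1))

end gen

section rows

variable {F : Type} [Field F] [Fintype F] (hK : Odd (Fintype.card F))

include hK

theorem d3_F4 : D3 ↥(chevF4.group F) := by
  have hT := S1035.result (F := F) rfl (chevF4, 1) (by simp)
  rw [one_mul] at hT
  exact d3_chev isType_F4 F hK (s := 3) tabF4 okF4 (by norm_num) (by norm_num)
    (fun a ha b hb hab => orth_of (orth1F4 a ha b hb hab)) (by decide +kernel)
    (Orders.ord_F4 hK (three_le hK) (S1062.result (F := F) rfl) hT)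

theorem d3_E6 : D3 ↥(chevE6.group F) :=
  d3_chev isType_E6 F hK (s := 3) tabE6 okE6 (by norm_num) (by norm_num)
    (fun a ha b hb hab => orth_of (orth1E6 a ha b hb hab)) (by decide +kernel)
    (Orders.ord_E6 hK (three_le hK) (Nat.gcd_pos_of_pos_left _ (by norm_num)).ne' (S1063.result (F := F) rfl)
      (S1035.result (F := F) rfl (chevE6, Nat.gcd 3 (Fintype.card F - 1)) (by simp)))

theorem d3_E7 : D3 ↥(chevE7.group F) :=
  d3_chev isType_E7 F hK (s := 3) tabE7 okE7 (by norm_num) (by norm_num)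
    (fun a ha b hb hab => orth_of (orth1E7 a ha b hb hab)) (by decide +kernel)
    (Orders.ord_E7 hK (three_le hK) (Nat.gcd_pos_of_pos_left _ (by norm_num)).ne' (S1064.result (F := F) rfl)
      (S1035.result (F := F) rfl (chevE7, Nat.gcd 2 (Fintype.card F - 1)) (by simp)))

end rows

end Cfsg.Agent.H196.K547
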