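import Mathlib
import Cfsg.Agent.H821.K547.Defs

/-!
# Noncyclic 2-groups map onto `C₂²` (helper196, S4547)

* `exists_hom_of_index_two` : a subgroup of index 2 is the kernel of a homomorphism onto `Multiplicative (ZMod 2)`;
* `rk_two_of_not_isCyclic` : a finite noncyclic 2-group `P` has `Rk 2 P`;
* `rk_two_of_closure` : in particular if `P` is generated by involutions and `2 < |P|`.
-/

set_option autoImplicit false

namespace Cfsg.Agent.H196.K547

open Cfsg.Agent.H821.K547

universe u

variable {P : Type u} [Group P]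

theorem exists_hom_of_index_two (M : Subgroup P) (hM : M.index = 2) :
    ∃ f : P →* Multiplicative (ZMod 2), ∀ x, f x = 1 ↔ x ∈ M := by
  have hN : M.Normal := Subgroup.normal_of_index_eq_two hM
  have hcard : Nat.card (P ⧸ M) = 2 := hM
  have hfin : Finite (P ⧸ M) := Nat.finite_of_card_ne_zero (by rw [hcard]; norm_num)
  have : Fact (Nat.Prime 2) := ⟨Nat.prime_two⟩
  have h2 : Nat.card (Multiplicative (ZMod 2)) = 2 := by
    rw [Nat.card_congr Multiplicative.toAdd, Nat.card_zmod]
  let e : P ⧸ M ≃* Multiplicative (ZMod 2) := mulEquivOfPrimeCardEq (p := 2) hcard h2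
  refine ⟨e.toMonoidHom.comp (QuotientGroup.mk' M), fun x => ?_⟩
  have h3 : (e.toMonoidHom.comp (QuotientGroup.mk' M)) x = e (QuotientGroup.mk' M x) := rfl
  rw [h3, EmbeddingLike.map_eq_one_iff]
  exact QuotientGroup.eq_one_iff x

/-- a coatom of a finite 2-group has index 2 -/
theorem index_of_coatom [Finite P] (hP : IsPGroup 2 P) {M : Subgroup P} (hM : IsCoatom M) : M.index = 2 := by
  have : Fact (Nat.Prime 2) := ⟨Nat.prime_two⟩
  obtain ⟨n, hn⟩ := hP.exists_card_eq
  obtain ⟨k, hk⟩ := (hP.to_subgroup M).exists_card_eq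
  have hkn : k < n := by
    by_contra hcon
    have h1 : Nat.card P ≤ Nat.card M := by
      rw [hn, hk]; exact Nat.pow_le_pow_right (by norm_num) (by omega)
    exact hM.1 (Subgroup.eq_top_of_le_card _ h1)
  obtain ⟨K, hK, hMK⟩ := Sylow.exists_subgroup_card_pow_succ (p := 2) (n := k) (G := P)
    (by rw [hn]; exact pow_dvd_pow 2 hkn) hk
  have hne : M ≠ K := by
    rintro rfl
    rw [hk, pow_succ] at hK
    have : 0 < 2 ^ k := by positivity
    omega
  have hKt : K = ⊤ := hM.2 K (lt_of_le_of_ne hMK hne)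
  have h1 : Nat.card P = 2 ^ (k + 1) := by rw [← hK, hKt]; exact Subgroup.card_top.symm
  have h2 := M.card_mul_index
  rw [h1, hk, pow_succ] at h2
  exact Nat.eq_of_mul_eq_mul_left (by positivity) h2

/-- a homomorphism to `C₂ⁿ` from its components -/
def pack {n : ℕ} (f : Fin n → P →* Multiplicative (ZMod 2)) : P →* Multiplicative (Fin n → ZMod 2) where
  toFun x := Multiplicative.ofAdd fun i => (f i x).toAdd
  map_one' := by
    apply Multiplicative.toAdd.injective
    funext i
    show (f i 1).toAdd = 0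
    rw [map_one]; rfl
  map_mul' a b := by
    apply Multiplicative.toAdd.injective
    funext i
    show (f i (a * b)).toAdd = (f i a).toAdd + (f i b).toAdd
    rw [map_mul]; rfl

theorem pack_apply {n : ℕ} (f : Fin n → P →* Multiplicative (ZMod 2)) (x : P) (i : Fin n) :
    (pack f x).toAdd i = (f i x).toAdd := rfl

theorem eq_of_ne_one : ∀ a b : Multiplicative (ZMod 2), a ≠ 1 → b ≠ 1 → a = b := by decide

/-- one more homomorphism -/
theorem rk_succ {n : ℕ} (f : P →* Multiplicative (Fin n → ZMod 2)) (hf : Function.Surjective f)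
    (g : P →* Multiplicative (ZMod 2)) {x : P} (h1 : f x = 1) (h2 : g x ≠ 1) : Rk (n + 1) P := by
  let c : Fin n → P →* Multiplicative (ZMod 2) := fun i =>
    { toFun := fun x => Multiplicative.ofAdd ((f x).toAdd i)
      map_one' := by rw [map_one]; rfl
      map_mul' := fun a b => by rw [map_mul]; rfl }
  refine ⟨pack (Fin.cons g c), fun v => ?_⟩
  obtain ⟨y, hy⟩ := hf (Multiplicative.ofAdd fun i => v.toAdd i.succ)
  have hc : ∀ i (z : P), (c i z).toAdd = (f z).toAdd i := fun i z => rfl
  by_cases h3 : g y = Multiplicative.ofAdd (v.toAdd 0)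
  · refine ⟨y, ?_⟩
    apply Multiplicative.toAdd.injective
    funext i
    rw [pack_apply]
    refine Fin.cases ?_ (fun i => ?_) i
    · rw [Fin.cons_zero, h3]; rfl
    · rw [Fin.cons_succ, hc, hy]; rfl
  · refine ⟨x * y, ?_⟩
    apply Multiplicative.toAdd.injective
    funext i
    rw [pack_apply]
    refine Fin.cases ?_ (fun i => ?_) i
    · rw [Fin.cons_zero]
      have h4 : g (x * y) = Multiplicative.ofAdd (v.toAdd 0) := by
        rw [map_mul]
        revert h2 h3
        generalize g x = a
        generalize g y = b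
        generalize Multiplicative.ofAdd (v.toAdd 0) = d
        revert a b d
        decide
      rw [h4]; rfl
    · rw [Fin.cons_succ, hc, map_mul, h1, one_mul, hy]; rfl

theorem rk_two_of_not_isCyclic [Finite P] (hP : IsPGroup 2 P) (hc : ¬ IsCyclic P) : Rk 2 P := by
  have hz : ∀ x : P, Subgroup.zpowers x ≠ ⊤ := by
    intro x hx
    exact hc ⟨x, fun y => (hx ▸ Subgroup.mem_top y : y ∈ Subgroup.zpowers x)⟩
  obtain ⟨M₁, hM₁, h1⟩ := (eq_top_or_exists_le_coatom (Subgroup.zpowers (1 : P))).resolve_left (hz 1)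
  obtain ⟨y, hy⟩ : ∃ y, y ∉ M₁ := by
    by_contra hcon
    push Not at hcon
    exact hM₁.1 (eq_top_iff.2 fun x _ => hcon x)
  obtain ⟨M₂, hM₂, h2⟩ := (eq_top_or_exists_le_coatom (Subgroup.zpowers y)).resolve_left (hz y)
  have hyM₂ : y ∈ M₂ := h2 (Subgroup.mem_zpowers y)
  have hne : ¬ M₁ ≤ M₂ := by
    intro hle
    rcases eq_or_lt_of_le hle with h3 | h3
    · exact hy (h3 ▸ hyM₂)
    · exact hM₂.1 (hM₁.2 _ h3)
  obtain ⟨x, hx, hx2⟩ := SetLike.not_le_iff_exists.1 hne
  obtain ⟨f₁, hf₁⟩ := exists_hom_of_index_two M₁ (index_of_coatom hP hM₁)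
  obtain ⟨f₂, hf₂⟩ := exists_hom_of_index_two M₂ (index_of_coatom hP hM₂)
  refine rk_succ (n := 1) (pack fun _ => f₁) (fun v => ?_) f₂ (x := x) ?_ fun h => hx2 ((hf₂ x).1 h)
  · by_cases hv : v.toAdd 0 = 0
    · refine ⟨1, ?_⟩
      rw [map_one]
      apply Multiplicative.toAdd.injective
      funext i
      rw [Subsingleton.elim i 0, hv]; rfl
    · refine ⟨y, ?_⟩
      apply Multiplicative.toAdd.injective
      funext i
      rw [Subsingleton.elim i 0, pack_apply]
      have h3 : f₁ y ≠ 1 := fun h => hy ((hf₁ y).1 h)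
      exact congrArg Multiplicative.toAdd (eq_of_ne_one (f₁ y) (Multiplicative.ofAdd (v.toAdd 0)) h3 hv)
  · apply Multiplicative.toAdd.injective
    funext i
    rw [pack_apply, (hf₁ x).2 hx]; rfl

/-- a 2-group of order at least 4 generated by involutions -/
theorem rk_two_of_closure [Finite P] (hP : IsPGroup 2 P) {Γ : Set P} (hΓ : Subgroup.closure Γ = ⊤)
    (h2 : ∀ g ∈ Γ, g * g = 1) (hcard : 2 < Nat.card P) : Rk 2 P := by
  refine rk_two_of_not_isCyclic hP fun hc => ?_
  have hcomm : ∀ a b : P, a * b = b * a := by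
    exact hc.isMulCommutative.is_comm.comm
  have hall : ∀ x : P, x * x = 1 := by
    intro x
    have hx : x ∈ Subgroup.closure Γ := by rw [hΓ]; exact Subgroup.mem_top x
    induction hx using Subgroup.closure_induction with
    | mem g hg => exact h2 g hg
    | one => exact mul_one 1
    | mul a b _ _ ha hb =>
      rw [show a * b * (a * b) = a * (b * a) * b by group, hcomm b a,
        show a * (a * b) * b = (a * a) * (b * b) by group, ha, hb, mul_one]
    | inv a _ ha => rw [← mul_inv_rev, ha, inv_one]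
  obtain ⟨g, hg⟩ := hc
  have h3 : orderOf g ∣ 2 := orderOf_dvd_of_pow_eq_one (by rw [pow_two]; exact hall g)
  have h4 : Nat.card P = orderOf g := by
    rw [← Nat.card_zpowers]
    have : Subgroup.zpowers g = ⊤ := eq_top_iff.2 fun x _ => hg x
    rw [this]
    exact Subgroup.card_top.symm
  have h5 := Nat.le_of_dvd (by norm_num) h3
  omega

end Cfsg.Agent.H196.K547
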