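import Cfsg.Agent.H335.Sd.Frame
import Cfsg.Agent.H491.Sd.FrOdd
import Cfsg.Agent.H196.K547.Rank

/-!
# The frame group maps onto `P` (helper196, S4547)

`R : RGD cs h p T n X`, `F : FrameData cs h X β P`, `MF R β P = (⨆ a, LL X (β a)) ⊔ NP R P`.

* `exists_hom` : `MF R β P` maps onto `P`, and `⨆ a, LL X (β a)` is in the kernel;
* `cj_or_comm` : for `m ∈ MF R β P`, `m` normalises `LL X (β a)` or `LL X (β a)` and its conjugate commute.
-/

set_option autoImplicit false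
set_option linter.unusedSectionVars false

namespace Cfsg.Agent.H196.K547

open CoxeterSystem Cfsg.Agent.ChevalleyStructure.CoxeterGeom Cfsg.Agent.Tits.Roots Cfsg.Agent.Tits.Core
  Cfsg.Agent.Nodes.Reps Cfsg.Agent.Nodes.BNOf Cfsg.Agent.Nodes.Bruhat Cfsg.Agent.Nodes.OppDec
  Cfsg.Agent.Nodes.FreeTorus
  Cfsg.Agent.ClosedExc Cfsg.Agent.ClosedExc.Rk Cfsg.Agent.ClosedExc.Prod Cfsg.Agent.ClosedExc.Frame
open Cfsg.Agent.H335.Sd.Frame (FM Ov mem_FM)
open Cfsg.Agent.H491.Sd (MF)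

variable {I W Y : Type*} [Fintype I] [DecidableEq I] [Group W] [Group Y] {M : CoxeterMatrix I}
  {cs : CoxeterSystem M W} {C : I → I → ℤ} {h : IsCartan M C} {p : ℕ} {T : Subgroup Y} {n : I → Y}
  {X : (I → ℤ) → Subgroup Y} (R : RGD cs h p T n X) [Finite W] [Finite Y]
  {ι : Type*} [Fintype ι] {β : ι → (I → ℤ)} {P : Subgroup W} (F : FrameData cs h X β P)

theorem FM_eq : FM R β P = MF R β P := rfl

include F in
theorem ov_one (hSL : ∀ x, IsRoot cs h x → IsSL (LL X x)) {w : W} (hw : w ∈ P) (h1 : Ov R β w (1 : Y)) : w = 1 := by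
  obtain ⟨y, hy, g, hg, e⟩ := h1
  have h2 : g ∈ T := frame_kernel R F hSL hw hg hy fun a => by
    rw [← e]
    exact cj_one _
  exact rp_eq R hg (rp_of_mem h2)

include F in
theorem ov_unique (hSL : ∀ x, IsRoot cs h x → IsSL (LL X x)) {v w : W} (hv : v ∈ P) (hw : w ∈ P) {x : Y}
    (h1 : Ov R β v x) (h2 : Ov R β w x) : v = w := by
  have h3 := (h1.inv R F hv).mul R F (inv_mem hv) h2
  rw [inv_mul_cancel] at h3
  exact inv_mul_eq_one.1 (ov_one R F hSL (mul_mem (inv_mem hv) hw) h3)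

include F in
/-- **The frame group maps onto `P`.** -/
theorem exists_hom (hSL : ∀ x, IsRoot cs h x → IsSL (LL X x)) :
    ∃ f : ↥(MF R β P) →* ↥P, Function.Surjective f ∧
      ∀ x (hx : x ∈ MF R β P), x ∈ ⨆ a, LL X (β a) → f ⟨x, hx⟩ = 1 := by
  have hex : ∀ x : ↥(MF R β P), ∃ w : ↥P, Ov R β (w : W) (x : Y) := by
    intro x
    obtain ⟨y, hy, w, hw, g, hg, e⟩ := (mem_FM R F).1 x.2
    exact ⟨⟨w, hw⟩, y, hy, g, hg, e⟩
  choose f hf using hex
  have hu : ∀ (x : ↥(MF R β P)) (w : ↥P), Ov R β (w : W) (x : Y) → f x = w := fun x w hw =>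
    Subtype.ext (ov_unique R F hSL (f x).2 w.2 (hf x) hw)
  refine ⟨⟨⟨f, hu _ _ ⟨1, one_mem _, 1, rp_of_mem (one_mem _), (mul_one 1).symm⟩⟩,
    fun a b => hu _ _ ((hf a).mul R F (f a).2 (hf b))⟩, ?_, ?_⟩
  · intro w
    obtain ⟨g, hg⟩ := exists_rp cs R.nsys (w : W)
    exact ⟨⟨g, Subgroup.mem_sup_right ⟨w, w.2, hg⟩⟩, hu _ _ ⟨1, one_mem _, g, hg, (one_mul g).symm⟩⟩
  · intro x hx hxE
    exact hu _ _ ⟨x, hxE, 1, rp_of_mem (one_mem _), (mul_one x).symm⟩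

include F in
theorem exists_cj {m : Y} (hm : m ∈ MF R β P) (a : ι) : ∃ b, cj m (LL X (β a)) = LL X (β b) := by
  obtain ⟨y, hy, w, hw, g, hg, rfl⟩ := (mem_FM R F).1 hm
  obtain ⟨b, hb, -⟩ := frame_cj R F hw hg a
  exact ⟨b, by rw [cj_mul, hb, frame_cj_E F hy]⟩

include F in
/-- the conjugates of `LL X (β a)` under the frame group are equal to it or commute with it -/
theorem cj_or_comm {m : Y} (hm : m ∈ MF R β P) (a : ι) :
    (∀ x ∈ LL X (β a), m * x * m⁻¹ ∈ LL X (β a)) ∨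
      ∀ x ∈ LL X (β a), ∀ y ∈ LL X (β a), Commute x (m * y * m⁻¹) := by
  obtain ⟨b, hb⟩ := exists_cj R F hm a
  by_cases hab : b = a
  · left
    intro x hx
    have : m * x * m⁻¹ ∈ cj m (LL X (β a)) := conj_mem_cj.2 hx
    rwa [hb, hab] at this
  · right
    intro x hx y hy
    have : m * y * m⁻¹ ∈ cj m (LL X (β a)) := conj_mem_cj.2 hy
    rw [hb] at this
    exact F.orth a b (Ne.symm hab) x hx _ this

end Cfsg.Agent.H196.K547
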