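import Cfsg.Agent.H196.K547.Frame
import Cfsg.Agent.H821.K547.Quat
import Cfsg.Agent.S0261

/-!
# Three generators for the Sylow 2-subgroups from a frame of `SL(2,q)`s (helper196, S4547)

* `d3_of_frame` : `Y` with a root group datum, a frame `β` with permutation group `P` (a 2-group with `Rk 2`), `MF R β P` of
  odd index, one of the groups `LL X (β a)` isomorphic to `SL(2, F₀)`: `D3 Y`.
-/

set_option autoImplicit false
set_option linter.unusedSectionVars false

namespace Cfsg.Agent.H196.K547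

open CoxeterSystem Cfsg.Agent.ChevalleyStructure.CoxeterGeom Cfsg.Agent.Tits.Roots Cfsg.Agent.Tits.Core
  Cfsg.Agent.Nodes.Reps Cfsg.Agent.Nodes.BNOf Cfsg.Agent.Nodes.Bruhat Cfsg.Agent.Nodes.OppDec
  Cfsg.Agent.Nodes.FreeTorus
  Cfsg.Agent.ClosedExc Cfsg.Agent.ClosedExc.Rk Cfsg.Agent.ClosedExc.Prod Cfsg.Agent.ClosedExc.Frame
open Cfsg.Agent.H491.Sd (MF)
open Cfsg.Agent.H821.K547 (Rk D3)

universe u v

theorem rk_of_surjective {A : Type u} {B : Type v} [Group A] [Group B] (f : A →* B) (hf : Function.Surjective f)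
    {n : ℕ} (h : Rk n B) : Rk n A := by
  obtain ⟨g, hg⟩ := h
  exact ⟨g.comp f, hg.comp hf⟩

/-- the Sylow 2-subgroup of a 2-group -/
theorem rk_sylow {A : Type u} [Group A] (hA : IsPGroup 2 A) {n : ℕ} (h : Rk n A) (Q : Sylow 2 A) : Rk n Q := by
  have h1 : (Q : Subgroup A) = ⊤ := (Q.is_maximal' (hA.to_subgroup ⊤) le_top).symm
  refine rk_of_surjective (Q : Subgroup A).subtype (fun x => ⟨⟨x, ?_⟩, rfl⟩) h
  show x ∈ (Q : Subgroup A)
  rw [h1]
  exact Subgroup.mem_top x

/-- `D3` is invariant under isomorphisms -/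
theorem d3_congr {A : Type u} {B : Type v} [Group A] [Group B] (e : A ≃* B) (h : D3 B) : D3 A := by
  intro Q
  let Q' : Sylow 2 B := Q.comapOfInjective e.symm.toMonoidHom e.symm.injective (by
    intro x _
    exact ⟨e x, e.symm_apply_apply x⟩)
  let f : ↥(Q : Subgroup A) →* ↥(Q' : Subgroup B) :=
    { toFun := fun x => ⟨e x, show e.symm (e (x : A)) ∈ (Q : Subgroup A) by rw [e.symm_apply_apply]; exact x.2⟩
      map_one' := Subtype.ext (map_one e)
      map_mul' := fun x y => Subtype.ext (map_mul e _ _) }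
  exact rk_of_surjective f (fun y => ⟨⟨e.symm y, y.2⟩, Subtype.ext (e.apply_symm_apply _)⟩) (h Q')

/-- the Sylow 2-subgroups of `SL(2, q)` -/
theorem sl_cond {F₀ : Type} [Field F₀] [Fintype F₀] (hF : Odd (Fintype.card F₀)) {L : Type u} [Group L]
    (e : Matrix.SpecialLinearGroup (Fin 2) F₀ ≃* L) (Q : Sylow 2 L) :
    (∃ a b : Q, a * b ≠ b * a) ∧
      ∀ a b : Q, (∀ q : Q, q * a = a * q) → (∀ q : Q, q * b = b * q) → a ≠ 1 → b ≠ 1 → a = b := by
  classical
  have : Fact (Nat.Prime 2) := ⟨Nat.prime_two⟩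
  have hfin : Finite L := Finite.of_equiv _ e.toEquiv
  let Q' : Sylow 2 (Matrix.SpecialLinearGroup (Fin 2) F₀) := Q.comapOfInjective e.toMonoidHom e.injective (by
    intro x _
    exact ⟨e.symm x, e.apply_symm_apply x⟩)
  obtain ⟨k, hk, ⟨f⟩⟩ := Cfsg.Agent.S0261.result hF Q'
  have h2 : 2 ≤ 2 ^ k := by
    calc 2 = 2 ^ 1 := (pow_one 2).symm
      _ ≤ 2 ^ k := Nat.pow_le_pow_right (by norm_num) hk
  obtain ⟨⟨a, b, hab⟩, hz⟩ := Cfsg.Agent.H821.K547.quaternion_cond h2 f
  let g : (Q' : Subgroup (Matrix.SpecialLinearGroup (Fin 2) F₀)) ≃* (Q : Subgroup L) :=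
    { toFun := fun x => ⟨e x, x.2⟩
      invFun := fun y => ⟨e.symm y, show e (e.symm (y : L)) ∈ (Q : Subgroup L) by
        rw [e.apply_symm_apply]; exact y.2⟩
      left_inv := fun x => Subtype.ext (e.symm_apply_apply _)
      right_inv := fun y => Subtype.ext (e.apply_symm_apply _)
      map_mul' := fun x y => Subtype.ext (map_mul e _ _) }
  constructor
  · refine ⟨g a, g b, fun h => hab (g.injective ?_)⟩
    rw [map_mul, map_mul]; exact h
  · intro a b ha hb ha1 hb1
    apply g.symm.injective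
    refine hz _ _ (fun q => g.injective ?_) (fun q => g.injective ?_) ?_ ?_
    · rw [map_mul, map_mul, g.apply_symm_apply]; exact ha (g q)
    · rw [map_mul, map_mul, g.apply_symm_apply]; exact hb (g q)
    · intro h
      exact ha1 (by rw [← g.apply_symm_apply a, h, map_one])
    · intro h
      exact hb1 (by rw [← g.apply_symm_apply b, h, map_one])

variable {I : Type*} {W : Type v} {Y : Type u} [Fintype I] [DecidableEq I] [Group W] [Group Y] {M : CoxeterMatrix I}
  {cs : CoxeterSystem M W} {C : I → I → ℤ} {h : IsCartan M C} {p : ℕ} {T : Subgroup Y} {n : I → Y}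
  {X : (I → ℤ) → Subgroup Y} (R : RGD cs h p T n X) [Finite W] [Finite Y]
  {ι : Type*} [Fintype ι] {β : ι → (I → ℤ)} {P : Subgroup W} (F : FrameData cs h X β P)

include F in
/-- **`D3` from a frame of `SL(2,q)`s.** -/
theorem d3_of_frame (hSL : ∀ i, IsSL (LL X (sr i))) (hodd : Odd (MF R β P).index) (hP2 : IsPGroup 2 ↥P)
    (hP : Rk 2 ↥P) (a : ι) {F₀ : Type} [Field F₀] [Fintype F₀] (hF₀ : Odd (Fintype.card F₀))
    (e : Matrix.SpecialLinearGroup (Fin 2) F₀ ≃* ↥(LL X (β a))) : D3 Y := by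
  have : Fact (Nat.Prime 2) := ⟨Nat.prime_two⟩
  have hSL' : ∀ x, IsRoot cs h x → IsSL (LL X x) := fun x hx => isSL_of_root R hSL hx
  obtain ⟨f, hf, hfE⟩ := exists_hom R F hSL'
  have hL : LL X (β a) ≤ MF R β P := (le_iSup (fun a => LL X (β a)) a).trans le_sup_left
  have hfin : Finite ↥P := inferInstance
  obtain ⟨Q⟩ : Nonempty (Sylow 2 ↥(LL X (β a))) := inferInstance
  obtain ⟨hna, hZ⟩ := sl_cond hF₀ e Q
  refine Cfsg.Agent.H821.K547.d3_of_commuting (MF R β P) (LL X (β a)) ?_ hL ?_ Q hna hZ f hf ?_ (rk_sylow hP2 hP)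
  · intro h2
    rcases hodd with ⟨k, hk⟩
    omega
  · intro t ht
    rcases cj_or_comm R F ht a with h1 | h1
    · exact Or.inl h1
    · exact Or.inr fun x hx y hy => (h1 x hx y hy).eq
  · intro x hx
    exact hfE x (hL hx) (le_iSup (fun a => LL X (β a)) a hx)

end Cfsg.Agent.H196.K547
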