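import Cfsg.Agent.H196.K547.Main
import Cfsg.Agent.H491.Sd.FrInst

/-!
# `D3` for `²E₆(q)`, `q` odd (helper196, S4547, task K547-QO-2E6)

* `gm_sq` : the generators of the permutation group of a certificate are involutions;
* `rk_two_of_cert` : `Rk 2` for the group `P` of a certificate;
* `d3_twE6` : **`D3` of `²E₆(q)`.**
-/

set_option autoImplicit false
set_option linter.unusedSectionVars false
set_option maxRecDepth 100000

namespace Cfsg.Agent.H196.K547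

open CoxeterSystem Cfsg.Lie Cfsg.Agent.ChevalleyStructure Cfsg.Agent.ChevalleyStructure.CoxeterGeom
  Cfsg.Agent.ChevalleyStructure.Elts Cfsg.Agent.Tits.Roots Cfsg.Agent.Tits.Core Cfsg.Agent.Nodes.Reps
  Cfsg.Agent.Nodes.BNOf Cfsg.Agent.Nodes.Bruhat Cfsg.Agent.Nodes.RGDChev Cfsg.Agent.ClosedExc
  Cfsg.Agent.ClosedExc.Frame Cfsg.Agent.ClosedExc.WFr
open Cfsg.Agent.H775.Sd.ChevElem (Gm wframe')
open Cfsg.Agent.H821.K547 (Rk D3)

section cert

variable {W : Type*} [Group W] {l k N : ℕ} {M : CoxeterMatrix (Fin l)} (cs : CoxeterSystem M W)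
  {C : Fin l → Fin l → ℤ} {h : IsCartan M C} {c : Cert}

include h in
theorem gm_sq (hA : IsTab C c.AL) (hc : Ok l k N c) : ∀ w ∈ Gm cs c, w * w = 1 := by
  rintro _ ⟨g, hg, rfl⟩
  have hRel : Rel cs h c.T (wd cs (fw g.1)) g.2 := by
    refine ⟨(hc.gp g hg).1, (hc.gp g hg).2, fun a ha => ?_⟩
    rw [rep_wd cs h hA (hc.Tl _ (by rw [List.getD_eq_getElem _ _ ha]; exact List.getElem_mem _)), hc.ga g hg a ha]
  have h1 := hRel.mul hRel
  rw [hc.gi g hg] at h1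
  exact h1.unique hc.span Rel.one

include h in
theorem rk_two_of_cert [Finite W] (hA : IsTab C c.AL) (hc : Ok l k N c) {m : ℕ} (hN : N = 2 ^ m) (hm : 2 ≤ m) :
    IsPGroup 2 ↥(Subgroup.closure (Gm cs c)) ∧ Rk 2 ↥(Subgroup.closure (Gm cs c)) := by
  have hcard : Nat.card ↥(Subgroup.closure (Gm cs c)) = 2 ^ m := by
    rw [← hN]; exact (wframe' cs h hA hc).2.2.2
  have hP : IsPGroup 2 ↥(Subgroup.closure (Gm cs c)) := IsPGroup.of_card hcard
  refine ⟨hP, rk_two_of_closure hP (Subgroup.closure_closure_coe_preimage (k := Gm cs c)) ?_ ?_⟩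
  · intro g hg
    exact Subtype.ext (gm_sq cs (h := h) hA hc _ hg)
  · rw [hcard]
    calc 2 < 2 ^ 2 := by norm_num
      _ ≤ 2 ^ m := Nat.pow_le_pow_right (by norm_num) hm

end cert

/-! ### `SL(2,q)` -/

/-- an element of order dividing 2 in a `p`-group, `p` odd -/
theorem eq_one_of_sq {G : Type*} [Group G] {p : ℕ} [Fact p.Prime] (hp : p ≠ 2) {S : Subgroup G} (hS : IsPGroup p S)
    {u : G} (hu : u ∈ S) (h2 : u * u = 1) : u = 1 := by
  obtain ⟨m, hm⟩ := hS ⟨_, hu⟩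
  have h4 : u ^ p ^ m = 1 := congrArg Subtype.val hm
  have h6 : Nat.Coprime 2 (p ^ m) :=
    Nat.Coprime.pow_right m ((Nat.coprime_primes Nat.prime_two (Fact.out : p.Prime)).2 (Ne.symm hp))
  have h7 : orderOf u = 1 :=
    Nat.eq_one_of_dvd_coprimes h6 (orderOf_dvd_of_pow_eq_one (by rw [pow_two]; exact h2)) (orderOf_dvd_of_pow_eq_one h4)
  rwa [orderOf_eq_one_iff] at h7

/-- the isomorphism with a conjugate -/
noncomputable def cjEquiv {G : Type*} [Group G] (g : G) (L : Subgroup G) : ↥L ≃* ↥(cj g L) :=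
  L.equivMapOfInjective (MulAut.conj g).toMonoidHom (MulAut.conj g).injective

/-- `SL(2, F₀)` from a homomorphism with kernel contained in `{1, -1}` -/
noncomputable def slEquiv {G : Type*} [Group G] {F₀ : Type*} [Field F₀] (Ψ : Matrix.SpecialLinearGroup (Fin 2) F₀ →* G)
    (hker : ∀ u, Ψ u = 1 → u = 1 ∨ u = -1) (hneg : Ψ (-1) ≠ 1) : Matrix.SpecialLinearGroup (Fin 2) F₀ ≃* ↥Ψ.range :=
  MonoidHom.ofInjective (f := Ψ) ((injective_iff_map_eq_one Ψ).2 fun u hu => by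
    rcases hker u hu with h | h
    · exact h
    · exact absurd (h ▸ hu) hneg)

section TwE6

open Cfsg.Agent.Nodes Cfsg.Agent.Nodes.RGDFold Cfsg.Agent.Nodes.RGDTwGen
open Cfsg.Agent.Nodes.RGDTwE6 (X nn isCartan foldData)
open Cfsg.Agent.Nodes.FreeTorus (LL)
open Cfsg.Agent.GpExc Cfsg.Agent.GpExc.TwNode
open Cfsg.Agent.ChevalleyStructure.SL2Hom Cfsg.Agent.ChevalleyStructure.TwE6Basic Cfsg.Agent.ChevalleyStructure.TwE6BN
open Cfsg.Agent.ClosedTw Cfsg.Agent.H491.Sd Cfsg.Agent.H491.Sd.FrInst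

variable {K : Type} [Field K] {q : ℕ} {φ : K →+* K} (hφ : ∀ x, φ x = x ^ q) (hqq : ∀ t : K, (t ^ q) ^ q = t)

include hφ hqq in
/-- the rank one group of the long simple root `0` is `SL(2,q)` -/
theorem sl_node [Fintype K] {W : Type*} [Group W] [Finite W] (cs : CoxeterSystem CoxeterMatrix.F₄ W) (p : ℕ)
    [Fact p.Prime] [CharP K p] (hp : p ≠ 2) (hq : 1 < q) (hK : Fintype.card K = q ^ 2) (ho : Odd q) :
    ∃ (F₀ : Type) (_ : Field F₀) (_ : Fintype F₀), Odd (Fintype.card F₀) ∧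
      Nonempty (Matrix.SpecialLinearGroup (Fin 2) F₀ ≃* ↥(LL (X φ q) (sr 0))) := by
  classical
  have hKo : Odd (Fintype.card K) := by rw [hK]; exact ho.pow
  have h2 : (2 : K) ≠ 0 := SL.two_ne hKo
  have hfin : Fintype ↥(F0 φ) := Fintype.ofFinite _
  have hc := card_F0 hφ hq hK
  have hι : ∀ s : ↥(F0 φ), ((F0 φ).subtype s) ^ q = (F0 φ).subtype s := fun s => (mem_F0 hφ _).1 s.2
  have hs : ∀ t : K, t ^ q = t → ∃ s : ↥(F0 φ), (F0 φ).subtype s = t := fun t ht => ⟨⟨t, (mem_F0 hφ _).2 ht⟩, rfl⟩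
  have N := nodeSingle hφ hqq (F0 φ).subtype hι hs single0 (by decide +kernel : (46 : ℕ) < chevE6.nroots)
  have hneg := single_neg hφ (F0 φ).subtype hι hs single0 (by decide +kernel : (46 : ℕ) < chevE6.nroots)
  have hker := single_ker (F0 φ).subtype hι single0 (by decide +kernel : (46 : ℕ) < chevE6.nroots) h2
  revert N hneg hker
  generalize (Rank.psi hE6 (by decide +kernel : (46 : ℕ) < chevE6.nroots) (F0 φ).subtype
    (fun t => single0.pos_mem_G (q := q) (hι t)) (fun t => single0.neg_mem_G (q := q) (hι t))) = Ψ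
  intro N hneg hker
  refine ⟨↥(F0 φ), inferInstance, inferInstance, by rw [hc]; exact ho, ?_⟩
  have hr : Ψ.range = LL (X φ q) (sr 0) := by
    apply le_antisymm
    · rintro _ ⟨g, rfl⟩
      exact psi_mem Ψ (fun t => Subgroup.mem_sup_left (N.up_mem t)) (fun t => Subgroup.mem_sup_right (N.lo_mem t)) g
    · refine sup_le ?_ ?_
      · intro g hg
        obtain ⟨t, rfl⟩ := N.surj g hg
        exact ⟨_, rfl⟩
      · intro g hg
        obtain ⟨t, rfl⟩ := hneg g hg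
        exact ⟨_, rfl⟩
  have hne : Ψ (-1) ≠ 1 := by
    intro h1
    have R := RGDTwE6.rgd cs hφ hqq p
    have h3 : (nn hφ 0)⁻¹ * (nn hφ 0)⁻¹ = 1 := by
      rw [← mul_inv_rev, N.n_eq, ← map_mul, w_sq, h1, inv_one]
    obtain ⟨u, hu, hu1⟩ : ∃ u ∈ X φ q (sr 1), u ≠ 1 := by
      by_contra hcon
      push Not at hcon
      exact X_ne_bot R (isRoot_sr cs isCartan 1) ((Subgroup.eq_bot_iff_forall _).2 hcon)
    have h4 := FrTw.inv_of_par hφ par01 u hu
    rw [h3, one_mul, inv_one, mul_one] at h4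
    refine hu1 (eq_one_of_sq hp (R.pgrp 1) hu ?_)
    nth_rewrite 2 [h4]
    exact mul_inv_cancel u
  exact ⟨(slEquiv Ψ hker hne).trans (MulEquiv.subgroupCongr hr)⟩

end TwE6

/-- **`D3` for `²E₆(q)`, `q` odd.** -/
theorem d3_twE6 {K : Type} [Field K] [Fintype K] {q : ℕ} (hq : IsPrimePow q) (hK : Fintype.card K = q ^ 2)
    (ho : Odd q) : D3 ↥(twistedE6 K q) := by
  obtain ⟨φ, hφ, hqq⟩ := TwE6Basic.exists_frob hq hK
  obtain ⟨p, hpc⟩ := CharP.exists K
  have hpr : Fact p.Prime := ⟨CharP.char_is_prime K p⟩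
  have hKo : Odd (Fintype.card K) := by rw [hK]; exact ho.pow
  have h2 : (2 : K) ≠ 0 := SL.two_ne hKo
  have hp2 : p ≠ 2 := by
    rintro rfl
    exact h2 CharTwo.two_eq_zero
  have hW : Finite CoxeterMatrix.F₄.Group :=
    Cfsg.Agent.Nodes.RGDFold.finite_W (hp := Nodes.RGDTwE6.hp) CoxeterMatrix.F₄.toCoxeterSystem
      Nodes.RGDTwE6.isCartan Nodes.RGDTwE6.foldData
  set cs := CoxeterMatrix.F₄.toCoxeterSystem with hcs
  have R := Nodes.RGDTwE6.rgd cs hφ hqq p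
  have F := H491.Sd.FrInst.frameData_tw (φ := φ) (q := q) cs
  have hodd := H491.Sd.FrTw.odd_index_tw hφ hqq cs p hq hK ho F (Fintype.card_fin 4)
    (H491.Sd.FrInst.card_P_tw cs) (H491.Sd.FrInst.long_tw cs)
  obtain ⟨hP, hrk⟩ := rk_two_of_cert cs (h := Nodes.RGDTwE6.isCartan) tabTwE6 okTwE6 (m := 3) rfl (by norm_num)
  obtain ⟨F₀, i1, i2, hF₀, ⟨e⟩⟩ := sl_node hφ hqq cs p hp2 hq.one_lt hK ho
  obtain ⟨w, hw⟩ := H491.Sd.FrInst.long_tw cs 0
  obtain ⟨g, hg⟩ := exists_rp cs R.nsys w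
  have e1 : cj g (Nodes.FreeTorus.LL (Nodes.RGDTwE6.X φ q) (sr 0)) =
      Nodes.FreeTorus.LL (Nodes.RGDTwE6.X φ q) (H491.Sd.FrInst.βf 4 cTwE6 0) := by
    rw [hw]
    exact Rk.rp_cj_LL R hg (isRoot_sr cs _ 0)
  exact d3_of_frame R F (fun i => (ClosedTw.nodes hφ hqq hq.one_lt hK ho h2 i).2) hodd hP hrk 0 hF₀
    ((e.trans (cjEquiv g _)).trans (MulEquiv.subgroupCongr e1))

universe u in
theorem d3_of_equiv_twE6 {S : Type u} [Group S] {K : Type} [Field K] [Fintype K] {q : ℕ} (hq : IsPrimePow q)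
    (hK : Fintype.card K = q ^ 2) (ho : Odd q) (e : S ≃* ↥(twistedE6 K q)) : D3 S :=
  d3_congr e (d3_twE6 hq hK ho)

end Cfsg.Agent.H196.K547
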